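import Groth.Agent.ResProp.EF.K649.RepPts
import Groth.Agent.ResProp.EF.K661.TowerB

/-!
# The graded pieces of the operator package as modules over `H`

`gr P j : GMod H0` with `V = GQ P j = Fil j / Fil (j+1)`; the coaction is conjugation by the lifts of the universal point;
`actM_gr` (all flat algebras).
-/

set_option autoImplicit false

universe u

open TensorProduct Groth.Agent.ResProp.EF.Grp Groth.Agent.ResProp.EF.K104 Groth.Agent.ResProp.EF.K208 WithConv
  Groth.Agent.ResProp.EF.K661

noncomputable section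

namespace Groth.Agent.ResProp.EF.K649

variable {k : Type u} [CommRing k] {H0 : Gp k} {n : ℕ}

open Classical in
/-- The operators of the points of `H` on `B ⊗ gr^j`. -/
def grRep (P : OpPkg (pts H0) n) (j : ℕ) (hj : 1 ≤ j) : Rep k H0.O (GQ P j) where
  s B _ _ g := if hB : Module.Flat k B then cj P B j hj (mkPt H0 g) else LinearMap.id
  nat {B C} _ _ _ _ _ _ f g x := by
    rw [dif_pos (inferInstance : Module.Flat k B), dif_pos (inferInstance : Module.Flat k C)]
    exact cj_nat P f j hj (mkPt H0 g) x
  mul B _ _ _ g h x := by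
    simp only [dif_pos (inferInstance : Module.Flat k B)]
    rw [mkPt_pmul, cj_mul]
  one B _ _ _ x := by
    simp only [dif_pos (inferInstance : Module.Flat k B)]
    rw [mkPt_pone, cj_one]

theorem grRep_s (P : OpPkg (pts H0) n) (j : ℕ) (hj : 1 ≤ j) (B : Type u) [CommRing B] [Algebra k B]
    [Module.Flat k B] (g : H0.O →ₐ[k] B) (x : B ⊗[k] GQ P j) :
    (grRep P j hj).s B g x = cj P B j hj (mkPt H0 g) x := by
  unfold grRep
  simp only [dif_pos (inferInstance : Module.Flat k B)]

open Classical in
/-- The coaction of `H` on the graded pieces. -/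
@[reducible] def grCo (P : OpPkg (pts H0) n) (j : ℕ) : HopfRep.Comod k H0.O (GQ P j) :=
  if hj : 1 ≤ j then (grRep P j hj).comod else HopfRep.Comod.trivial k H0.O (GQ P j)

theorem grCo_eq (P : OpPkg (pts H0) n) (j : ℕ) (hj : 1 ≤ j) : grCo P j = (grRep P j hj).comod :=
  dif_pos hj

/-- The graded pieces as modules over `H`. -/
abbrev gr (P : OpPkg (pts H0) n) (j : ℕ) : GMod H0 where
  V := GQ P j
  co := grCo P j

theorem actM_gr (P : OpPkg (pts H0) n) (j : ℕ) (hj : 1 ≤ j) (B : Type u) [CommRing B] [Algebra k B]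
    [Module.Flat k B] (g : (pts H0).pt B) (x : B ⊗[k] GQ P j) :
    actM (grCo P j).coact g (TensorProduct.comm k B (GQ P j) x) =
      TensorProduct.comm k B (GQ P j) (cj P B j hj g x) := by
  rw [grCo_eq P j hj]
  have h := actM_rep (grRep P j hj) (WithConv.ofConv g : H0.O →ₐ[k] B) x
  rw [grRep_s] at h
  exact h

end Groth.Agent.ResProp.EF.K649
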