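import Groth.Agent.ResProp.EF.K104.Iface
import Mathlib.RingTheory.Flat.Basic
import Mathlib.LinearAlgebra.TensorProduct.Submodule
import Mathlib.LinearAlgebra.Matrix.GeneralLinearGroup.Defs
import Mathlib.LinearAlgebra.TensorProduct.RightExactness
import Mathlib.LinearAlgebra.TensorProduct.Tower

/-!
# Section 5 of helper980's proof: the operator package

`OpPkg H n` is what section 4 (the Koszul complex `KK`, the operators `DD^(j)` and the lifts), after the gluing along `Γ`,
delivers to section 5.  It never mentions a twist `T`.  `AA B` is the ring of (equivariant) endomorphisms of `KK ⊗ B`,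
`D = DD^(1)` with its filtration `Fil j = DD^(j)`, and `Lift B h` is the set of lifts of the point `h` of `H`.
All properties are asked on flat algebras only (functoriality of `AA` itself for all algebras).
`K649/TowerOf.lean` constructs helper104's `Tower` from it.
-/

set_option autoImplicit false

universe u

open TensorProduct Groth.Agent.ResProp.EF.K104

namespace Groth.Agent.ResProp.EF.K649

/-- The operator package. -/
structure OpPkg {k : Type u} [CommRing k] (H : GFun k) (n : ℕ) where
  /-- the rings of endomorphisms -/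
  AA : (B : Type u) → [CommRing B] → [Algebra k B] → Type u
  ring : ∀ (B : Type u) [CommRing B] [Algebra k B], Ring (AA B)
  alg : ∀ (B : Type u) [CommRing B] [Algebra k B], letI := ring B; Algebra B (AA B)
  /-- functoriality -/
  map : ∀ {B C : Type u} [CommRing B] [Algebra k B] [CommRing C] [Algebra k C],
    (B →ₐ[k] C) → letI := ring B; letI := ring C; AA B →+* AA C
  map_algebraMap : ∀ {B C : Type u} [CommRing B] [Algebra k B] [CommRing C] [Algebra k C] (f : B →ₐ[k] C) (b : B),
    letI := ring B; letI := ring C; letI := alg B; letI := alg C; map f (algebraMap B (AA B) b) = algebraMap C (AA C) (f b)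
  map_id : ∀ (B : Type u) [CommRing B] [Algebra k B] (x : AA B), map (AlgHom.id k B) x = x
  map_comp : ∀ {B C D : Type u} [CommRing B] [Algebra k B] [CommRing C] [Algebra k C] [CommRing D] [Algebra k D]
    (f : B →ₐ[k] C) (g : C →ₐ[k] D) (x : AA B), map (g.comp f) x = map g (map f x)
  /-- the module of operators `DD^(1)` -/
  D : Type u
  [addD : AddCommGroup D]
  [modD : Module k D]
  /-- the filtration `DD^(j)` -/
  Fil : ℕ → Submodule k D
  fil_anti : ∀ j, Fil (j + 1) ≤ Fil j
  fil_one : Fil 1 = ⊤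
  fil_last : Fil (n + 1) = ⊥
  /-- operators act -/
  iota : ∀ (B : Type u) [CommRing B] [Algebra k B], letI := ring B; letI := alg B; B ⊗[k] D →ₗ[B] AA B
  iota_inj : ∀ (B : Type u) [CommRing B] [Algebra k B] [Module.Flat k B], Function.Injective (iota B)
  iota_map : ∀ {B C : Type u} [CommRing B] [Algebra k B] [CommRing C] [Algebra k C] (f : B →ₐ[k] C) (b : B) (d : D),
    map f (iota B (b ⊗ₜ[k] d)) = iota C (f b ⊗ₜ[k] d)
  /-- the product of operators -/
  mul_mem : ∀ (B : Type u) [CommRing B] [Algebra k B] [Module.Flat k B] (i j : ℕ) (_ : 1 ≤ i) (_ : 1 ≤ j) (x y : B ⊗[k] D),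
    letI := ring B; letI := alg B;
    x ∈ (Fil i).baseChange B → y ∈ (Fil j).baseChange B →
      ∃ z ∈ (Fil (i + j)).baseChange B, iota B z = iota B x * iota B y
  /-- the lifts of a point of `H` -/
  Lift : ∀ (B : Type u) [CommRing B] [Algebra k B], letI := ring B; H.pt B → Set (AA B)ˣ
  lift_ne : ∀ (B : Type u) [CommRing B] [Algebra k B] [Module.Flat k B] (h : H.pt B), (Lift B h).Nonempty
  lift_map : ∀ {B C : Type u} [CommRing B] [Algebra k B] [Module.Flat k B] [CommRing C] [Algebra k C] [Module.Flat k C]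
    (f : B →ₐ[k] C) (h : H.pt B),
    letI := ring B; letI := ring C; ∀ ψ ∈ Lift B h, Units.map (map f : AA B →* AA C) ψ ∈ Lift C (H.map f h)
  lift_mul : ∀ (B : Type u) [CommRing B] [Algebra k B] [Module.Flat k B] (h h' : H.pt B),
    letI := ring B; ∀ ψ ∈ Lift B h, ∀ ψ' ∈ Lift B h', ψ * ψ' ∈ Lift B (h * h')
  lift_inv : ∀ (B : Type u) [CommRing B] [Algebra k B] [Module.Flat k B] (h : H.pt B),
    letI := ring B; ∀ ψ ∈ Lift B h, ψ⁻¹ ∈ Lift B h⁻¹
  lift_one : ∀ (B : Type u) [CommRing B] [Algebra k B] [Module.Flat k B],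
    letI := ring B; letI := alg B; ∀ ψ ∈ Lift B 1, ∃ x : B ⊗[k] D, (ψ : AA B) = 1 + iota B x
  lift_conj : ∀ (B : Type u) [CommRing B] [Algebra k B] [Module.Flat k B] (h : H.pt B),
    letI := ring B; letI := alg B; ∀ ψ ∈ Lift B h, ∀ (j : ℕ) (_ : 1 ≤ j), ∀ x ∈ (Fil j).baseChange B,
      ∃ y ∈ (Fil j).baseChange B, iota B y = (ψ : AA B) * iota B x * ((ψ⁻¹ : (AA B)ˣ) : AA B)

attribute [instance] OpPkg.ring OpPkg.alg OpPkg.addD OpPkg.modD

end Groth.Agent.ResProp.EF.K649
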