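import Groth.Agent.ResProp.EF.K649.GrWit
import Groth.Agent.ResProp.EF.K86.KmapLv
import Groth.Agent.ResProp.EF.K90.GrPM
import Groth.Agent.ResProp.EF.K567.WGpd

/-!
# The witness of the arrows of the levels and the congruence for the symbols (helper649)

`c : CoverDatum`, `F : MFam c.Y ι`; `cond_lv`: if `u l ∈ Fil N` are such that their classes are `Γ`-invariant and coact through
the matrix `M`, then for every arrow `a` over the point `h` of `H` between the vertices `i`, `j` of `B ⊗ A⟨n⟩` and every lift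
`φ` of `a`: `φ (u l) - ∑ m, h (M m l) • u m ∈ Fil (N + 1)`.
-/

set_option autoImplicit false
set_option linter.dupNamespace false
set_option linter.style.haveILetI false

open CategoryTheory Opposite TensorProduct MvPolynomial

noncomputable section

namespace Groth.Agent.ResProp.EF.K649

open K784.BC K784.PM K741.RP EF56 Groth.Agent.ResProp.EF.Arch Groth.Agent.ResProp.EF.Grp
open Groth.Agent.ResProp.EF.K863 Groth.Agent.ResProp.EF.K341 Groth.Agent.ResProp.EF.K90 K980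
  _root_.Groth.Agent.ResProp.EF.K964
open Groth.Agent.ResProp.EF.K86 (kBC uBC hBC hU hU_apply hLv hLv_apply hLv_k wit wit_algebraMap wit_source wit_target)

universe u

variable {k : Type u} [CommRing k] {A : NFᵒᵖ ⥤ CommRingCat.{u}} [GRF k A] {x : PrimeSpectrum (A.obj (op ⟨0⟩))}
  (c : CoverDatum k A x)

section Maps

variable (B : Type u) [CommRing B] [Algebra k B] (n : ℕ)

/-- the `j`-th vertex, over `k` -/
def xpk (j : Fin (n + 1)) : A.obj (op ⟨0⟩) →ₐ[k] B ⊗[k] A.obj (op ⟨n⟩) :=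
  (Algebra.TensorProduct.includeRight (R := k) (A := B) (B := A.obj (op ⟨n⟩))).comp (rgk k A (pt ⟨n⟩ j))

/-- `A⟨0⟩ ⊗ O(H) → B ⊗ A⟨n⟩` of a point `h` of `H` and the `j`-th vertex -/
def hkL (j : Fin (n + 1)) (h : c.H.O →ₐ[k] B) : A.obj (op ⟨0⟩) ⊗[k] c.H.O →+* B ⊗[k] A.obj (op ⟨n⟩) :=
  (Algebra.TensorProduct.lift (xpk (A := A) B n j)
    ((Algebra.TensorProduct.includeLeft (R := k) (S := k) (A := B) (B := A.obj (op ⟨n⟩))).comp h)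
    (fun _ _ => Commute.all _ _)).toRingHom

theorem hkL_tmul (j : Fin (n + 1)) (h : c.H.O →ₐ[k] B) (r : A.obj (op ⟨0⟩)) (o : c.H.O) :
    hkL c B n j h (r ⊗ₜ o) = xp k A B n j r * hLv c B n h o := Algebra.TensorProduct.lift_tmul _ _ _ _ _

theorem hkL_one_tmul (j : Fin (n + 1)) (h : c.H.O →ₐ[k] B) (o : c.H.O) :
    hkL c B n j h ((1 : A.obj (op ⟨0⟩)) ⊗ₜ o) = h o ⊗ₜ 1 := by
  rw [hkL_tmul, map_one, one_mul, hLv_apply]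

/-- `D⟨0⟩ ⊗ O(H) → BC (xp j) D⟨0⟩` -/
def hUL (j : Fin (n + 1)) (h : c.H.O →ₐ[k] B) :
    c.Y.D.obj (op ⟨0⟩) ⊗[k] c.H.O →+* BC (xp k A B n j) (c.Y.D.obj (op ⟨0⟩)) :=
  letI := kBC c (xp k A B n j)
  (Algebra.TensorProduct.lift (uBC c (xp k A B n j)) (hBC c (xp k A B n j) (hLv c B n h) (hLv_k c B n j h))
    (fun _ _ => Commute.all _ _)).toRingHom

theorem hUL_tmul (j : Fin (n + 1)) (h : c.H.O →ₐ[k] B) (d : c.Y.D.obj (op ⟨0⟩)) (o : c.H.O) :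
    hUL c B n j h (d ⊗ₜ o) = bc (xp k A B n j) d *
      algebraMap (B ⊗[k] A.obj (op ⟨n⟩)) (BC (xp k A B n j) (c.Y.D.obj (op ⟨0⟩))) (hLv c B n h o) :=
  letI := kBC c (xp k A B n j)
  Algebra.TensorProduct.lift_tmul (uBC c (xp k A B n j)) (hBC c (xp k A B n j) (hLv c B n h) (hLv_k c B n j h))
    (fun _ _ => Commute.all _ _) d o

theorem hUL_one_tmul (j : Fin (n + 1)) (h : c.H.O →ₐ[k] B) (o : c.H.O) :
    hUL c B n j h ((1 : c.Y.D.obj (op ⟨0⟩)) ⊗ₜ o) =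
      algebraMap (B ⊗[k] A.obj (op ⟨n⟩)) (BC (xp k A B n j) (c.Y.D.obj (op ⟨0⟩))) (h o ⊗ₜ 1) := by
  rw [hUL_tmul, BC.bc_one, one_mul, hLv_apply]

variable [Algebra (A.obj (op ⟨0⟩) ⊗[k] c.H.O) (c.Y.D.obj (op ⟨0⟩) ⊗[k] c.H.O)]

/-- **the witness of the arrows of the levels** -/
theorem wit_lv (hal : ∀ (r : A.obj (op ⟨0⟩)) (o : c.H.O),
      algebraMap (A.obj (op ⟨0⟩) ⊗[k] c.H.O) (c.Y.D.obj (op ⟨0⟩) ⊗[k] c.H.O) (r ⊗ₜ o) =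
        algebraMap (A.obj (op ⟨0⟩)) (c.Y.D.obj (op ⟨0⟩)) r ⊗ₜ o)
    (i j : Fin (n + 1)) (h : c.H.O →ₐ[k] B)
    (eta : BC (xp k A B n i) (c.Y.D.obj (op ⟨0⟩)) →+* BC (xp k A B n j) (c.Y.D.obj (op ⟨0⟩)))
    (heta : ∀ d, vtxD c B n j (eta (bc _ d)) = hAct c B n h (rg c.Y.D (pt ⟨n⟩ i) d)) :
    Wit (rg A (pt ⟨n⟩ i)) (rg A (pt ⟨n⟩ j)) (rg c.Y.D (pt ⟨n⟩ i)) (rg c.Y.D (pt ⟨n⟩ j))
      (Algebra.TensorProduct.includeLeft (R := k) (S := k) (A := A.obj (op ⟨0⟩)) (B := c.H.O)).toRingHom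
      (Algebra.TensorProduct.includeLeft (R := k) (S := k) (A := c.Y.D.obj (op ⟨0⟩)) (B := c.H.O)).toRingHom
      (c.ρ ⟨0⟩).ρ.toRingHom (xp k A B n i) (xp k A B n j) eta
      (Algebra.TensorProduct.includeRight (R := k) (A := B) (B := A.obj (op ⟨n⟩))).toRingHom
      (wit c B n j h) (hkL c B n j h) (hUL c B n j h) where
  hx := rfl
  hy := rfl
  hj := by
    refine RingHom.ext fun r => ?_
    change hkL c B n j h (r ⊗ₜ 1) = _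
    rw [hkL_tmul, hLv_apply, map_one, ← Algebra.TensorProduct.one_def, mul_one]
  E_alg r := wit_algebraMap c B n j h r
  U_alg r := by
    induction r using TensorProduct.induction_on with
    | zero => rw [map_zero, map_zero, map_zero, map_zero]
    | add a b ha hb => rw [map_add, map_add, map_add, map_add, ha, hb]
    | tmul r o =>
      rw [hal, hUL_tmul, hkL_tmul, map_mul, BC.bc_algebraMap]
  E0 d := wit_source c B n i j h heta d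
  E1 d := wit_target c B n j h d
  Ui d := by
    change hUL c B n j h (d ⊗ₜ 1) = _
    rw [hUL_tmul, hLv_apply, map_one, ← Algebra.TensorProduct.one_def, map_one, mul_one]

end Maps

variable {c} {ι : Type} [Fintype ι] [DecidableEq ι] (F : MFam c.Y ι)

/-- invariant classes have the same image along all vertices -/
theorem gr_vertex {N : ℕ} {z : (F.m ⟨0⟩).gr N}
    (hz : (F.hom (pr ⟨0⟩)).gr (F.m ⟨0⟩) (F.m ⟨1⟩) N z = (F.hom (lst ⟨0⟩)).gr (F.m ⟨0⟩) (F.m ⟨1⟩) N z)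
    {n : ℕ} (i j : Fin (n + 1)) :
    (F.hom (pt ⟨n⟩ i)).gr (F.m ⟨0⟩) (F.m ⟨n⟩) N z = (F.hom (pt ⟨n⟩ j)).gr (F.m ⟨0⟩) (F.m ⟨n⟩) N z := by
  have h1 : (F.grPM N).map (pt ⟨n⟩ i) z = (F.grPM N).map (pt ⟨n⟩ j) z := by
    rw [← K343.ed_pr i j, (F.grPM N).map_comp]
    have h2 : (F.grPM N).map (pr ⟨0⟩) z = (F.grPM N).map (lst ⟨0⟩) z := hz
    rw [h2, ← (F.grPM N).map_comp, K343.ed_lst]
  exact h1

variable [Algebra (A.obj (op ⟨0⟩) ⊗[k] c.H.O) (c.Y.D.obj (op ⟨0⟩) ⊗[k] c.H.O)]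

/-- **The congruence for the symbols at the arrows of the levels.** -/
theorem cond_lv (hal : ∀ (r : A.obj (op ⟨0⟩)) (o : c.H.O),
      algebraMap (A.obj (op ⟨0⟩) ⊗[k] c.H.O) (c.Y.D.obj (op ⟨0⟩) ⊗[k] c.H.O) (r ⊗ₜ o) =
        algebraMap (A.obj (op ⟨0⟩)) (c.Y.D.obj (op ⟨0⟩)) r ⊗ₜ o)
    {ωO : ι → Ω[(c.Y.D.obj (op ⟨0⟩) ⊗[k] c.H.O)⁄(A.obj (op ⟨0⟩) ⊗[k] c.H.O)]}
    (inc : MHom (F.w ⟨0⟩) ωO
      (Algebra.TensorProduct.includeLeft (R := k) (S := k) (A := A.obj (op ⟨0⟩)) (B := c.H.O)).toRingHom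
      (Algebra.TensorProduct.includeLeft (R := k) (S := k) (A := c.Y.D.obj (op ⟨0⟩)) (B := c.H.O)).toRingHom 1)
    (C : Matrix ι ι c.H.O) {C' : Matrix ι ι (c.Y.D.obj (op ⟨0⟩) ⊗[k] c.H.O)} (hC' : ∀ p q, C' p q = 1 ⊗ₜ C p q)
    (co : MHom (F.w ⟨0⟩) ωO
      (Algebra.TensorProduct.includeLeft (R := k) (S := k) (A := A.obj (op ⟨0⟩)) (B := c.H.O)).toRingHom
      (c.ρ ⟨0⟩).ρ.toRingHom C')
    (mO : Model (A.obj (op ⟨0⟩) ⊗[k] c.H.O) (c.Y.D.obj (op ⟨0⟩) ⊗[k] c.H.O) (ι → c.Y.D.obj (op ⟨0⟩) ⊗[k] c.H.O)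
      (rhoI ωO))
    {N : ℕ} {κ : Type*} [Fintype κ] (u : κ → (F.m ⟨0⟩).Fil N) (M : Matrix κ κ c.H.O)
    (hpr : ∀ l, (F.hom (pr ⟨0⟩)).gr (F.m ⟨0⟩) (F.m ⟨1⟩) N ((F.m ⟨0⟩).toGr N (u l)) =
      (F.hom (lst ⟨0⟩)).gr (F.m ⟨0⟩) (F.m ⟨1⟩) N ((F.m ⟨0⟩).toGr N (u l)))
    (hco : ∀ l, co.gr (F.m ⟨0⟩) mO N ((F.m ⟨0⟩).toGr N (u l)) =
      ∑ q, ((1 : A.obj (op ⟨0⟩)) ⊗ₜ[k] M q l) • inc.gr (F.m ⟨0⟩) mO N ((F.m ⟨0⟩).toGr N (u q)))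
    (B : Type u) [CommRing B] [Algebra k B] (n : ℕ) (i j : Fin (n + 1)) (h : c.H.O →ₐ[k] B)
    (a : IsoDat (rhoI (F.w ⟨0⟩)) (xp k A B n i) (xp k A B n j))
    (ha : ∀ d, vtxD c B n j (a.eta (bc _ d)) = hAct c B n h (rg c.Y.D (pt ⟨n⟩ i) d))
    (haV : ∀ p, a.etaV (bc (xp k A B n i) (Pi.single p (1 : c.Y.D.obj (op ⟨0⟩)) : ι → c.Y.D.obj (op ⟨0⟩))) =
      ∑ q, (h (C q p) ⊗ₜ[k] (1 : A.obj (op ⟨n⟩))) •
        bc (xp k A B n j) (Pi.single q (1 : c.Y.D.obj (op ⟨0⟩)) : ι → c.Y.D.obj (op ⟨0⟩)))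
    (φ : (mBC (xp k A B n i) (F.m ⟨0⟩)).PP →ₐ[B ⊗[k] A.obj (op ⟨n⟩)] (mBC (xp k A B n j) (F.m ⟨0⟩)).PP)
    (hφ : IsModelHom (m := mBC (xp k A B n i) (F.m ⟨0⟩)) (m' := mBC (xp k A B n j) (F.m ⟨0⟩)) (K567.dHom a) φ) (l : κ) :
    φ (ppMap (xp k A B n i) (F.m ⟨0⟩) (u l)) -
      ∑ q, (h (M q l) ⊗ₜ[k] (1 : A.obj (op ⟨n⟩))) • ppMap (xp k A B n j) (F.m ⟨0⟩) (u q) ∈
        (mBC (xp k A B n j) (F.m ⟨0⟩)).Fil (N + 1) := by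
  have W := wit_lv c B n hal i j h (a.eta : BC (xp k A B n i) (c.Y.D.obj (op ⟨0⟩)) →+* _) ha
  have key := W.cond (F.hom (pt ⟨n⟩ i)) (F.hom (pt ⟨n⟩ j)) inc co (F.m ⟨n⟩) mO (SHom.ofDatumHom (K567.dHom a))
    (fun d => rfl) (fun p => by
      refine (haV p).trans (Finset.sum_congr rfl fun q _ => ?_)
      rw [hC', hUL_one_tmul, algebraMap_smul])
    (φ : (mBC (xp k A B n i) (F.m ⟨0⟩)).PP →+* (mBC (xp k A B n j) (F.m ⟨0⟩)).PP) (IsSHom.ofModelHom hφ) N (u l) u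
    (fun q => (1 : A.obj (op ⟨0⟩)) ⊗ₜ[k] M q l) (gr_vertex F (hpr l) i j) (hco l)
  have e : ∀ q, (h (M q l) ⊗ₜ[k] (1 : A.obj (op ⟨n⟩))) • ppMap (xp k A B n j) (F.m ⟨0⟩) (u q) =
      hkL c B n j h ((1 : A.obj (op ⟨0⟩)) ⊗ₜ[k] M q l) • ppMap (xp k A B n j) (F.m ⟨0⟩) (u q) := fun q => by
    rw [hkL_one_tmul]
  rw [Finset.sum_congr rfl fun q _ => e q]
  exact key

end Groth.Agent.ResProp.EF.K649
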