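import Groth.Agent.ResProp.EF.K341.Dat
import Groth.Agent.ResProp.EF.K863.Dat

/-!
# The universal arrow on differentials and on the graded pieces (helper649)

Abstract form: faces `h0`, `h1`, coaction `co`, all as maps of data in matrix form (`K341.MHom`).

* `om_univ` : the matrix of the arrow `g ∘ co` on the differentials;
* `gr_univ` : the matrix of the arrow `g ∘ co` on the graded pieces;
* `bcS` : base change as a map of data, `ppMap` lifts it;
* `cond_of` : the congruence for every lift of an arrow of base-changed data.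
-/

set_option autoImplicit false

open MvPolynomial

namespace Groth.Agent.ResProp.EF.K649

open Groth.Agent.ResProp.EF.K863 Groth.Agent.ResProp.EF.K341 K980 _root_.Groth.Agent.ResProp.EF.K964

section MH

variable {R : Type*} [CommRing R] {R₁ : Type*} [CommRing R₁] {RO : Type*} [CommRing RO] {R' : Type*} [CommRing R']
  {D : Type*} [CommRing D] [Algebra R D] {D₁ : Type*} [CommRing D₁] [Algebra R₁ D₁]
  {DO : Type*} [CommRing DO] [Algebra RO DO] {D' : Type*} [CommRing D'] [Algebra R' D']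
  {ι : Type*} [Fintype ι] [DecidableEq ι]
  {ω : ι → Ω[D⁄R]} {ω₁ : ι → Ω[D₁⁄R₁]} {ωO : ι → Ω[DO⁄RO]} {ω' : ι → Ω[D'⁄R']}
  {x0 x1 : R →+* R₁} {η0 η1 : D →+* D₁} {j : R →+* RO} {i c : D →+* DO} {C : Matrix ι ι DO}
  {gR : RO →+* R'} {gD : DO →+* D'} {kR : R₁ →+* R'} {kD : D₁ →+* D'}
  {a b : R →+* R'} {aD bD : D →+* D'} {Ca : Matrix ι ι D'}

omit [Fintype ι] in
theorem one_map_apply {E : Type*} [CommRing E] {F : Type*} [CommRing F] (θ : E →+* F) (p q : ι) :
    θ ((1 : Matrix ι ι E) p q) = (1 : Matrix ι ι F) p q := by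
  rw [Matrix.one_apply, Matrix.one_apply]
  split <;> simp

theorem one_mat {E : Type*} [CommRing E] {F : Type*} [CommRing F] (θ : E →+* F) (p q : ι) :
    (1 : Matrix ι ι F) p q = ∑ l, (1 : Matrix ι ι F) p l * θ ((1 : Matrix ι ι E) l q) := by
  rw [Finset.sum_eq_single p]
  · rw [Matrix.one_apply_eq, one_mul, one_map_apply]
  · intro l _ hl
    rw [Matrix.one_apply_ne (Ne.symm hl), zero_mul]
  · intro h; exact absurd (Finset.mem_univ p) h

/-- **The arrow `g ∘ co` in matrix form.** -/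
theorem univ_mhom (co : MHom ω ωO j c C) (g : MHom ωO ω' gR gD 1)
    (sq : Sq R D a aD) (ha : a = gR.comp j) (haD : ∀ d, aD d = gD (c d)) (hCa : ∀ p q, Ca p q = gD (C p q)) :
    MHom ω ω' a aD Ca where
  sq := sq
  rel p := by
    subst ha
    have h1 := (g.comp co).rel p
    rw [om_congr sq (g.comp co).sq (fun d => haD d), h1]
    refine Finset.sum_congr rfl fun q _ => ?_
    rw [one_mul, Matrix.map_apply, hCa]

/-- **The graded pieces.** If `t l` are invariant under the faces and `u` coacts through `s`, then the arrow `g ∘ co`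
sends `u` to the combination of the `t l`. -/
theorem gr_univ (h0 : MHom ω ω₁ x0 η0 1) (h1 : MHom ω ω₁ x1 η1 1) (inc : MHom ω ωO j i 1) (co : MHom ω ωO j c C)
    (g : MHom ωO ω' gR gD 1) (k : MHom ω₁ ω' kR kD 1) (hR : gR.comp j = kR.comp x0) (hD : ∀ d, gD (i d) = kD (η0 d))
    (m : Model R D (ι → D) (rhoI ω)) (m₁ : Model R₁ D₁ (ι → D₁) (rhoI ω₁)) (mO : Model RO DO (ι → DO) (rhoI ωO))
    (m' : Model R' D' (ι → D') (rhoI ω')) (n : ℕ) {κ : Type*} [Fintype κ] (u : m.gr n) (t : κ → m.gr n) (s : κ → RO)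
    (hΓ : ∀ l, h0.gr m m₁ n (t l) = h1.gr m m₁ n (t l))
    (hco : co.gr m mO n u = ∑ l, s l • inc.gr m mO n (t l))
    (A : MHom ω ω' a aD Ca) (ha : a = gR.comp j) (haD : ∀ d, aD d = gD (c d)) (hCa : ∀ p q, Ca p q = gD (C p q))
    (B : MHom ω ω' b bD 1) (hb : b = kR.comp x1) (hbD : ∀ d, bD d = kD (η1 d)) :
    A.gr m m' n u = ∑ l, gR (s l) • B.gr m m' n (t l) := by
  have e1 : ∀ p q, Ca p q = ∑ l, (1 : Matrix ι ι D') p l * gD (C l q) := fun p q => by
    rw [Finset.sum_eq_single p]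
    · rw [Matrix.one_apply_eq, one_mul, hCa]
    · intro l _ hl
      rw [Matrix.one_apply_ne (Ne.symm hl), zero_mul]
    · intro h; exact absurd (Finset.mem_univ p) h
  rw [g.gr_comp co A ha haD e1 m mO m' n u, hco, map_sum]
  refine Finset.sum_congr rfl fun l _ => ?_
  rw [g.gr_rsmul]
  congr 1
  rw [k.gr_comp h1 B hb hbD (one_mat kD) m m₁ m' n (t l), ← hΓ l]
  have F : MHom ω ω' (gR.comp j) (gD.comp i) 1 := by
    have h := g.comp inc
    refine ⟨h.sq, fun p => ?_⟩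
    rw [h.rel p]
    refine Finset.sum_congr rfl fun q _ => ?_
    rw [one_mul, Matrix.map_apply, one_map_apply]
  rw [← g.gr_comp inc F rfl (fun d => rfl) (one_mat gD) m mO m' n (t l),
    ← k.gr_comp h0 F hR hD (one_mat kD) m m₁ m' n (t l)]

end MH

section BCS

universe u v w

variable {R : Type u} {R' : Type v} [CommRing R] [CommRing R'] {D : Type w} [CommRing D] [Algebra R D]
  {V : Type*} [AddCommGroup V] [Module D V] [Module R V] [IsScalarTower R D V]

/-- base change as a map of data -/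
noncomputable def bcS (x : R →+* R') (ρ : V →ₗ[D] Ω[D⁄R]) : SHom ρ (rhoBC x ρ) x where
  η := BC.bcHom x
  η_alg r := BC.bc_algebraMap r
  ηV := (bc x : V →ₛₗ[x] BC x V).toAddMonoidHom
  map_smul d v := BC.bc_smul d v
  compat v y h := by
    change rhoBC x ρ (bc x v) = KaehlerDifferential.D R' (BC x D) (bc x y)
    rw [rhoBC_bc, h, kmap_D]

variable {ρ : V →ₗ[D] Ω[D⁄R]}

@[simp] theorem bcS_η (x : R →+* R') (d : D) : (bcS x ρ).η d = bc x d := rfl
@[simp] theorem bcS_ηV (x : R →+* R') (v : V) : (bcS x ρ).ηV v = bc x v := rfl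

theorem isSHom_ppMap (x : R →+* R') (m : Model R D V ρ) : IsSHom (m := m) (m₁ := mBC x m) (bcS x ρ) (ppMap x m) :=
  ⟨fun r => ppMap_C x m r, fun z => f_ppMap x m z, fun z => dV_ppMap x m z⟩

theorem bcS_gr_toGr (x : R →+* R') (m : Model R D V ρ) (n : ℕ) (z : m.Fil n) :
    (bcS x ρ).gr m (mBC x m) n (m.toGr n z) = (mBC x m).toGr n ⟨ppMap x m z, ppMap_mem_Fil x m z.2⟩ :=
  SHom.gr_toGr (isSHom_ppMap x m) n z

variable {D' : Type*} [CommRing D'] [Algebra R' D'] {V' : Type*} [AddCommGroup V'] [Module D' V']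
  {ρ' : V' →ₗ[D'] Ω[D'⁄R']}

theorem toGr_sum_smul {D₀ : Type*} [CommRing D₀] [Algebra R' D₀] {V₀ : Type*} [AddCommGroup V₀] [Module D₀ V₀]
    {ρ₀ : V₀ →ₗ[D₀] Ω[D₀⁄R']} (M : Model R' D₀ V₀ ρ₀) (n : ℕ) {κ : Type*} (S : Finset κ) (s : κ → R')
    (z : κ → M.Fil n) (h : ∑ l ∈ S, s l • (z l : M.PP) ∈ M.Fil n) :
    M.toGr n ⟨∑ l ∈ S, s l • (z l : M.PP), h⟩ = ∑ l ∈ S, s l • M.toGr n (z l) := by
  have e : (⟨∑ l ∈ S, s l • (z l : M.PP), h⟩ : M.Fil n) = ∑ l ∈ S, s l • z l := by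
    apply Subtype.ext
    rw [AddSubmonoidClass.coe_finsetSum]
    rfl
  rw [e, map_sum]
  rfl

/-- **The congruence for all lifts of an arrow**, from the statement on graded pieces. -/
theorem cond_of (m : Model R D V ρ) (M' : Model R' D' V' ρ') {x y : R →+* R'}
    (h : SHom (rhoBC x ρ) (rhoBC y ρ) (RingHom.id R')) (v : SHom (rhoBC y ρ) ρ' (RingHom.id R'))
    (w : SHom ρ' (rhoBC y ρ) (RingHom.id R'))
    (hwv : ∀ d, w.η (v.η d) = d) (hwvV : ∀ a, w.ηV (v.ηV a) = a) (A : SHom ρ ρ' x) (B : SHom ρ ρ' y)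
    (hA : ∀ d, A.η d = v.η (h.η (bc x d))) (hAV : ∀ a, A.ηV a = v.ηV (h.ηV (bc x a)))
    (hB : ∀ d, B.η d = v.η (bc y d)) (hBV : ∀ a, B.ηV a = v.ηV (bc y a))
    (φ : (mBC x m).PP →+* (mBC y m).PP) (hφ : IsSHom h φ) (n : ℕ) {κ : Type*} [Fintype κ] (u : m.Fil n)
    (t : κ → m.Fil n) (s : κ → R')
    (H : A.gr m M' n (m.toGr n u) = ∑ l, s l • B.gr m M' n (m.toGr n (t l))) :
    φ (ppMap x m u) - ∑ l, s l • ppMap y m (t l) ∈ (mBC y m).Fil (n + 1) := by
  have hu : φ (ppMap x m u) ∈ (mBC y m).Fil n := hφ.map_Fil (ppMap_mem_Fil x m u.2)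
  have ht : ∑ l, s l • ppMap y m (t l) ∈ (mBC y m).Fil n :=
    Ideal.sum_mem _ fun l _ => by
      rw [MvPolynomial.smul_eq_C_mul]
      exact Ideal.mul_mem_left _ _ (ppMap_mem_Fil y m (t l).2)
  have hinj : Function.Injective (v.gr (mBC y m) M' n) := by
    have : Function.LeftInverse (w.gr M' (mBC y m) n) (v.gr (mBC y m) M' n) := fun z => by
      rw [← SHom.gr_comp, SHom.gr_congr (RingHom.id_comp _) (w.comp v) (SHom.id _) (fun d => hwv d) (fun a => hwvV a),
        SHom.gr_id]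
    exact this.injective
  have key : (mBC y m).toGr n ⟨φ (ppMap x m u), hu⟩ = (mBC y m).toGr n ⟨∑ l, s l • ppMap y m (t l), ht⟩ := by
    apply hinj
    have e1 : (mBC y m).toGr n ⟨φ (ppMap x m u), hu⟩ = (h.comp (bcS x ρ)).gr m (mBC y m) n (m.toGr n u) := by
      rw [SHom.gr_toGr (hφ.comp (isSHom_ppMap x m))]
      rfl
    have e2 : (mBC y m).toGr n ⟨∑ l, s l • ppMap y m (t l), ht⟩ =
        ∑ l, s l • (bcS y ρ).gr m (mBC y m) n (m.toGr n (t l)) := by
      rw [toGr_sum_smul (mBC y m) n Finset.univ s (fun l => ⟨ppMap y m (t l), ppMap_mem_Fil y m (t l).2⟩) ht]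
      exact Finset.sum_congr rfl fun l _ => by rw [bcS_gr_toGr]
    rw [e1, e2, ← SHom.gr_comp, map_sum]
    refine (SHom.gr_congr (x := ((RingHom.id R').comp ((RingHom.id R').comp x))) rfl _ A (fun d => (hA d).symm)
      (fun a => (hAV a).symm) n _).trans ?_
    rw [H]
    refine Finset.sum_congr rfl fun l _ => ?_
    rw [SHom.gr_rsmul, RingHom.id_apply, ← SHom.gr_comp]
    congr 1
    exact SHom.gr_congr rfl B (v.comp (bcS y ρ)) (fun d => hB d) (fun a => hBV a) n _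
  exact (Model.toGr_eq_iff _ _).1 key

end BCS

end Groth.Agent.ResProp.EF.K649
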