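import Groth.Agent.ResProp.EF.K649.GrUniv

/-!
# Arrows of base-changed data with a witness (helper649)

`Wit` : a map `E : D₁ → BC y D` which restricts to `η ∘ bc x` along the face `η0` and to the point `hU ∘ c` of the coaction
along the face `η1`.

* `Wit.om_wit` : the matrix of the arrow on the differentials;
* `Wit.cond` : the congruence for every lift of the arrow, from invariance and coaction on the graded piece.
-/

set_option autoImplicit false

open MvPolynomial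

namespace Groth.Agent.ResProp.EF.K649

open Groth.Agent.ResProp.EF.K863 Groth.Agent.ResProp.EF.K341 K980 _root_.Groth.Agent.ResProp.EF.K964

universe u v w

section BC

variable {R : Type u} {R' : Type v} [CommRing R] [CommRing R'] {D : Type w} [CommRing D] [Algebra R D]

theorem sq_bc (x : R →+* R') : Sq R D x (BC.bcHom x) := ⟨fun r => BC.bc_algebraMap r⟩

theorem om_bc {x : R →+* R'} (sq : Sq R D x (BC.bcHom x)) (w : Ω[D⁄R]) : om sq w = kmap x w :=
  DFunLike.congr_fun (kmap_ext x (σ := om sq) (fun a w => om_smul sq a w) (fun a => om_D sq a)) w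

end BC

section Wit

variable {R : Type u} {R' : Type v} [CommRing R] [CommRing R'] {D : Type w} [CommRing D] [Algebra R D]
  {R₁ : Type*} [CommRing R₁] {D₁ : Type*} [CommRing D₁] [Algebra R₁ D₁]
  {RO : Type*} [CommRing RO] {DO : Type*} [CommRing DO] [Algebra RO DO]

/-- An arrow `eta : BC x D → BC y D` with a witness. -/
structure Wit (x0 x1 : R →+* R₁) (η0 η1 : D →+* D₁) (j : R →+* RO) (i c : D →+* DO) (x y : R →+* R')
    (eta : BC x D →+* BC y D) (ga : R₁ →+* R') (E : D₁ →+* BC y D) (hk : RO →+* R') (hU : DO →+* BC y D) : Prop where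
  hx : ga.comp x0 = x
  hy : ga.comp x1 = y
  hj : hk.comp j = y
  E_alg : ∀ r, E (algebraMap R₁ D₁ r) = algebraMap R' (BC y D) (ga r)
  U_alg : ∀ r, hU (algebraMap RO DO r) = algebraMap R' (BC y D) (hk r)
  E0 : ∀ d, E (η0 d) = eta (bc x d)
  E1 : ∀ d, E (η1 d) = hU (c d)
  Ui : ∀ d, hU (i d) = bc y d

variable {x0 x1 : R →+* R₁} {η0 η1 : D →+* D₁} {j : R →+* RO} {i c : D →+* DO} {x y : R →+* R'}
  {eta : BC x D →+* BC y D} {ga : R₁ →+* R'} {E : D₁ →+* BC y D} {hk : RO →+* R'} {hU : DO →+* BC y D}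

namespace Wit

variable (W : Wit x0 x1 η0 η1 j i c x y eta ga E hk hU)
include W

theorem sqE : Sq R₁ D₁ ga E := ⟨W.E_alg⟩

theorem sqU : Sq RO DO hk hU := ⟨W.U_alg⟩

variable {ι : Type*} [Fintype ι] [DecidableEq ι] {ω : ι → Ω[D⁄R]} {ω₁ : ι → Ω[D₁⁄R₁]} {ωO : ι → Ω[DO⁄RO]}
  {C : Matrix ι ι DO}

omit W in
theorem sum_one_smul {F : Type*} [CommRing F] {G : Type*} [AddCommGroup G] [Module F G] (v : ι → G) (p : ι) :
    ∑ q, (1 : Matrix ι ι F) q p • v q = v p := by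
  rw [Finset.sum_eq_single p]
  · rw [Matrix.one_apply_eq, one_smul]
  · intro q _ hq
    rw [Matrix.one_apply_ne hq, zero_smul]
  · intro h; exact absurd (Finset.mem_univ p) h

theorem om_U (inc : MHom ω ωO j i 1) (p : ι) : om W.sqU (ωO p) = kmap y (ω p) := by
  have h1 : om inc.sq (ω p) = ωO p := by rw [inc.rel, sum_one_smul]
  have hy := W.hj
  subst hy
  rw [← h1, ← om_comp W.sqU inc.sq (W.sqU.comp inc.sq), ← om_bc (sq_bc _)]
  exact om_congr _ _ (fun d => W.Ui d) _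

theorem om_E (h1 : MHom ω ω₁ x1 η1 1) (inc : MHom ω ωO j i 1) (co : MHom ω ωO j c C) (p : ι) :
    om W.sqE (ω₁ p) = ∑ q, hU (C q p) • kmap y (ω q) := by
  have e1 : om h1.sq (ω p) = ω₁ p := by rw [h1.rel, sum_one_smul]
  have e2 : om W.sqE (ω₁ p) = om W.sqU (om co.sq (ω p)) := by
    rw [← e1, ← om_comp W.sqE h1.sq (W.sqE.comp h1.sq), ← om_comp W.sqU co.sq (W.sqU.comp co.sq)]
    have := W.hy.trans W.hj.symm
    have key : ∀ {a b : R →+* R'} (_ : a = b) {f g : D →+* BC y D} (s : Sq R D a f) (t : Sq R D b g)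
        (_ : ∀ d, f d = g d), om s (ω p) = om t (ω p) := by
      intro a b hab f g s t hfg
      subst hab
      exact om_congr s t hfg _
    exact key this _ _ (fun d => W.E1 d)
  rw [e2, co.rel, map_sum]
  exact Finset.sum_congr rfl fun q _ => by rw [om_smul, W.om_U inc]

/-- **The matrix of the arrow on the differentials.** -/
theorem om_wit (h0 : MHom ω ω₁ x0 η0 1) (h1 : MHom ω ω₁ x1 η1 1) (inc : MHom ω ωO j i 1) (co : MHom ω ωO j c C)
    (g : Ω[BC x D⁄R'] →+ Ω[BC y D⁄R']) (hg : ∀ (a : BC x D) (w : Ω[BC x D⁄R']), g (a • w) = eta a • g w)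
    (hgD : ∀ a, g (KaehlerDifferential.D R' (BC x D) a) = KaehlerDifferential.D R' (BC y D) (eta a)) (p : ι) :
    g (kmap x (ω p)) = ∑ q, hU (C q p) • kmap y (ω q) := by
  rw [← W.om_E h1 inc co p]
  have e1 : om h0.sq (ω p) = ω₁ p := by rw [h0.rel, sum_one_smul]
  rw [← e1, ← om_comp W.sqE h0.sq (W.sqE.comp h0.sq)]
  exact DFunLike.congr_fun (om_unique (W.sqE.comp h0.sq) (σ := g.comp (kmap x)) (fun a w => by
    change g (kmap x (a • w)) = E (η0 a) • g (kmap x w)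
    rw [kmap_smul, hg, W.E0]) (fun a => by
    change g (kmap x _) = KaehlerDifferential.D R' (BC y D) (E (η0 a))
    rw [kmap_D, hgD, W.E0])) (ω p)

/-- the map of data `D₁ → BC y D` -/
noncomputable def KS (h1 : MHom ω ω₁ x1 η1 1) (inc : MHom ω ωO j i 1) (co : MHom ω ωO j c C) :
    SHom (rhoI ω₁) (rhoBC y (rhoI ω)) ga :=
  SHom.ofBasis W.sqE (Pi.basisFun D₁ ι) (fun p => ∑ q, hU (C q p) • bc y (Pi.single q (1 : D) : ι → D)) fun p => by
    rw [map_sum, rhoI_basis, W.om_E h1 inc co]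
    exact Finset.sum_congr rfl fun q _ => by rw [map_smul, rhoBC_bc, rhoI_single]

/-- the map of data `DO → BC y D` -/
noncomputable def US (inc : MHom ω ωO j i 1) : SHom (rhoI ωO) (rhoBC y (rhoI ω)) hk :=
  SHom.ofBasis W.sqU (Pi.basisFun DO ι) (fun p => bc y (Pi.single p (1 : D) : ι → D)) fun p => by
    rw [rhoBC_bc, rhoI_single, rhoI_basis, W.om_U inc]

variable {m : Model R D (ι → D) (rhoI ω)} {m₁ : Model R₁ D₁ (ι → D₁) (rhoI ω₁)} {mO : Model RO DO (ι → DO) (rhoI ωO)}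

omit W in
theorem one_col {F : Type*} [CommRing F] (p : ι) : (fun q => (1 : Matrix ι ι F) q p) = Pi.basisFun F ι p := by
  funext q
  rw [Pi.basisFun_apply, Matrix.one_apply, Pi.single_apply]

theorem gr_U (inc : MHom ω ωO j i 1) (n : ℕ) (t : m.gr n) :
    (W.US inc).gr mO (mBC y m) n (inc.gr m mO n t) = (bcS y (rhoI ω)).gr m (mBC y m) n t := by
  change (W.US inc).gr mO (mBC y m) n (inc.toSHom.gr m mO n t) = _
  rw [← SHom.gr_comp]
  refine SHom.gr_congr_basis _ _ W.hj (Pi.basisFun D ι) (fun d => W.Ui d) (fun p => ?_) _ _ _ _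
  change (W.US inc).ηV (inc.toSHom.ηV (Pi.basisFun D ι p)) = bc y (Pi.basisFun D ι p)
  rw [MHom.toSHom_ηV, one_col, US, SHom.ofBasis_ηV, Pi.basisFun_apply]

theorem gr_KU (h1 : MHom ω ω₁ x1 η1 1) (inc : MHom ω ωO j i 1) (co : MHom ω ωO j c C) (n : ℕ) (t : m.gr n) :
    (W.KS h1 inc co).gr m₁ (mBC y m) n (h1.gr m m₁ n t) = (W.US inc).gr mO (mBC y m) n (co.gr m mO n t) := by
  change (W.KS h1 inc co).gr m₁ (mBC y m) n (h1.toSHom.gr m m₁ n t) =
    (W.US inc).gr mO (mBC y m) n (co.toSHom.gr m mO n t)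
  rw [← SHom.gr_comp, ← SHom.gr_comp]
  refine SHom.gr_congr_basis _ _ (W.hy.trans W.hj.symm) (Pi.basisFun D ι) (fun d => W.E1 d) (fun p => ?_) _ _ _ _
  change (W.KS h1 inc co).ηV (h1.toSHom.ηV (Pi.basisFun D ι p)) = (W.US inc).ηV (co.toSHom.ηV (Pi.basisFun D ι p))
  rw [MHom.toSHom_ηV, one_col, KS, SHom.ofBasis_ηV, MHom.toSHom_ηV]
  rfl

/-- the arrow on the graded pieces -/
theorem gr_K (h0 : MHom ω ω₁ x0 η0 1) (h1 : MHom ω ω₁ x1 η1 1) (inc : MHom ω ωO j i 1) (co : MHom ω ωO j c C)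
    (h : SHom (rhoBC x (rhoI ω)) (rhoBC y (rhoI ω)) (RingHom.id R')) (hη : ∀ d, h.η d = eta d)
    (hV : ∀ p, h.ηV (bc x (Pi.single p (1 : D) : ι → D)) = ∑ q, hU (C q p) • bc y (Pi.single q (1 : D) : ι → D))
    (n : ℕ) (t : m.gr n) :
    h.gr (mBC x m) (mBC y m) n ((bcS x (rhoI ω)).gr m (mBC x m) n t) =
      (W.KS h1 inc co).gr m₁ (mBC y m) n (h0.gr m m₁ n t) := by
  change _ = (W.KS h1 inc co).gr m₁ (mBC y m) n (h0.toSHom.gr m m₁ n t)
  rw [← SHom.gr_comp, ← SHom.gr_comp]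
  refine SHom.gr_congr_basis _ _ ((RingHom.id_comp x).trans W.hx.symm) (Pi.basisFun D ι)
    (fun d => (hη _).trans (W.E0 d).symm) (fun p => ?_) _ _ _ _
  change h.ηV (bc x (Pi.basisFun D ι p)) = (W.KS h1 inc co).ηV (h0.toSHom.ηV (Pi.basisFun D ι p))
  rw [MHom.toSHom_ηV, one_col, KS, SHom.ofBasis_ηV, Pi.basisFun_apply, hV]

/-- **The arrow on an invariant class with coaction through the matrix `s`.** -/
theorem gr_wit (h0 : MHom ω ω₁ x0 η0 1) (h1 : MHom ω ω₁ x1 η1 1) (inc : MHom ω ωO j i 1) (co : MHom ω ωO j c C)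
    (m₁ : Model R₁ D₁ (ι → D₁) (rhoI ω₁)) (mO : Model RO DO (ι → DO) (rhoI ωO))
    (h : SHom (rhoBC x (rhoI ω)) (rhoBC y (rhoI ω)) (RingHom.id R')) (hη : ∀ d, h.η d = eta d)
    (hV : ∀ p, h.ηV (bc x (Pi.single p (1 : D) : ι → D)) = ∑ q, hU (C q p) • bc y (Pi.single q (1 : D) : ι → D))
    (n : ℕ) {κ : Type*} [Fintype κ] (u : m.gr n) (t : κ → m.gr n) (s : κ → RO)
    (hΓ : h0.gr m m₁ n u = h1.gr m m₁ n u) (hco : co.gr m mO n u = ∑ l, s l • inc.gr m mO n (t l)) :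
    h.gr (mBC x m) (mBC y m) n ((bcS x (rhoI ω)).gr m (mBC x m) n u) =
      ∑ l, hk (s l) • (bcS y (rhoI ω)).gr m (mBC y m) n (t l) := by
  rw [W.gr_K (m₁ := m₁) h0 h1 inc co h hη hV n u, hΓ, W.gr_KU (mO := mO) h1 inc co n u, hco, map_sum]
  exact Finset.sum_congr rfl fun l _ => by rw [SHom.gr_rsmul, W.gr_U inc n (t l)]

/-- **The congruence for every lift of the arrow.** -/
theorem cond (h0 : MHom ω ω₁ x0 η0 1) (h1 : MHom ω ω₁ x1 η1 1) (inc : MHom ω ωO j i 1) (co : MHom ω ωO j c C)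
    (m₁ : Model R₁ D₁ (ι → D₁) (rhoI ω₁)) (mO : Model RO DO (ι → DO) (rhoI ωO))
    (h : SHom (rhoBC x (rhoI ω)) (rhoBC y (rhoI ω)) (RingHom.id R')) (hη : ∀ d, h.η d = eta d)
    (hV : ∀ p, h.ηV (bc x (Pi.single p (1 : D) : ι → D)) = ∑ q, hU (C q p) • bc y (Pi.single q (1 : D) : ι → D))
    (φ : (mBC x m).PP →+* (mBC y m).PP) (hφ : IsSHom h φ)
    (n : ℕ) {κ : Type*} [Fintype κ] (u : m.Fil n) (t : κ → m.Fil n) (s : κ → RO)
    (hΓ : h0.gr m m₁ n (m.toGr n u) = h1.gr m m₁ n (m.toGr n u))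
    (hco : co.gr m mO n (m.toGr n u) = ∑ l, s l • inc.gr m mO n (m.toGr n (t l))) :
    φ (ppMap x m u) - ∑ l, hk (s l) • ppMap y m (t l) ∈ (mBC y m).Fil (n + 1) := by
  have hu : φ (ppMap x m u) ∈ (mBC y m).Fil n := hφ.map_Fil (ppMap_mem_Fil x m u.2)
  have ht : ∑ l, hk (s l) • ppMap y m (t l) ∈ (mBC y m).Fil n :=
    Ideal.sum_mem _ fun l _ => by
      rw [MvPolynomial.smul_eq_C_mul]
      exact Ideal.mul_mem_left _ _ (ppMap_mem_Fil y m (t l).2)
  have key : (mBC y m).toGr n ⟨φ (ppMap x m u), hu⟩ = (mBC y m).toGr n ⟨∑ l, hk (s l) • ppMap y m (t l), ht⟩ := by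
    have e2 : (mBC y m).toGr n ⟨∑ l, hk (s l) • ppMap y m (t l), ht⟩ =
        ∑ l, hk (s l) • (bcS y (rhoI ω)).gr m (mBC y m) n (m.toGr n (t l)) := by
      rw [toGr_sum_smul (mBC y m) n Finset.univ (fun l => hk (s l))
        (fun l => ⟨ppMap y m (t l), ppMap_mem_Fil y m (t l).2⟩) ht]
      exact Finset.sum_congr rfl fun l _ => by rw [bcS_gr_toGr]
    rw [e2, ← W.gr_wit h0 h1 inc co m₁ mO h hη hV n (m.toGr n u) (fun l => m.toGr n (t l)) s hΓ hco, bcS_gr_toGr,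
      SHom.gr_toGr hφ]
  exact (Model.toGr_eq_iff _ _).1 key

end Wit

end Wit

end Groth.Agent.ResProp.EF.K649
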