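import Groth.Agent.ResProp.EF.K208.Pts
import Mathlib.LinearAlgebra.Matrix.GeneralLinearGroup.Defs
import Mathlib.LinearAlgebra.Matrix.Kronecker

/-!
# Points of the modules of a group (seam `Grp.lean` / `K104/Iface.lean`)

Common definitions of block G5 on top of helper208's `pts E`: `ptsMod M` (points `M.V ⊗ B` of a module), matrix
representations `MRep E`, `matMod T M` (points of `End T ⊗ M` in matrix form), `MRep.mul` (Kronecker product), `theta`
(`x ↦ x ⊗ 1`) and `AdmP`.
-/

set_option autoImplicit false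
set_option linter.unusedSectionVars false

universe u

open TensorProduct Groth.Agent.ResProp.EF.Grp Groth.Agent.ResProp.EF.K104 Groth.Agent.ResProp.EF.K208 WithConv

noncomputable section

namespace Groth.Agent.ResProp.EF.K649

variable {k : Type u} [CommRing k]

attribute [local instance] convGrp

/-! ### Evaluation -/

section Ev

variable {V : Type u} [AddCommGroup V] [Module k V] {A : Type u} [CommRing A] [Algebra k A]
  {B : Type u} [CommRing B] [Algebra k B] {C : Type u} [CommRing C] [Algebra k C]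

/-- multiplication by `b` on the right factor of `V ⊗ B` -/
def rmul (V : Type u) [AddCommGroup V] [Module k V] (b : B) : V ⊗[k] B →ₗ[k] V ⊗[k] B :=
  (LinearMap.mulRight k b).lTensor V

@[simp] theorem rmul_tmul (b c : B) (v : V) : rmul (k := k) V b (v ⊗ₜ c) = v ⊗ₜ (c * b) := by
  simp [rmul]

theorem mulB_eq (x : V ⊗[k] B) (b : B) : mulB (k := k) V B (x ⊗ₜ b) = rmul V b x := by
  induction x using TensorProduct.induction_on with
  | zero => simp
  | add x y hx hy => rw [TensorProduct.add_tmul, map_add, map_add, hx, hy]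
  | tmul v c => simp

theorem vmap_rmul (f : B →ₐ[k] C) (b : B) (x : V ⊗[k] B) :
    f.toLinearMap.lTensor V (rmul V b x) = rmul V (f b) (f.toLinearMap.lTensor V x) := by
  induction x using TensorProduct.induction_on with
  | zero => simp
  | add x y hx hy => simp only [map_add, hx, hy]
  | tmul v c => simp

theorem rmul_mul (b c : B) (x : V ⊗[k] B) : rmul (k := k) V (b * c) x = rmul V b (rmul V c x) := by
  induction x using TensorProduct.induction_on with
  | zero => simp
  | add x y hx hy => simp only [map_add, hx, hy]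
  | tmul v d => simp only [rmul_tmul]; congr 1; ring

theorem rmul_comm (b c : B) (x : V ⊗[k] B) : rmul (k := k) V b (rmul V c x) = rmul V c (rmul V b x) := by
  rw [← rmul_mul, ← rmul_mul, mul_comm]

@[simp] theorem rmul_one (x : V ⊗[k] B) : rmul (k := k) V (1 : B) x = x := by
  induction x using TensorProduct.induction_on with
  | zero => simp
  | add x y hx hy => simp only [map_add, hx, hy]
  | tmul v d => simp

@[simp] theorem rmul_zero (x : V ⊗[k] B) : rmul (k := k) V (0 : B) x = 0 := by
  induction x using TensorProduct.induction_on with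
  | zero => simp
  | add x y hx hy => simp only [map_add, hx, hy, add_zero]
  | tmul v d => simp

theorem rmul_add (b c : B) (x : V ⊗[k] B) : rmul (k := k) V (b + c) x = rmul V b x + rmul V c x := by
  induction x using TensorProduct.induction_on with
  | zero => simp
  | add x y hx hy => simp only [map_add, hx, hy]; abel
  | tmul v d => simp [mul_add, TensorProduct.tmul_add]

theorem rmul_sum {ι : Type*} (s : Finset ι) (b : ι → B) (x : V ⊗[k] B) :
    rmul (k := k) V (∑ i ∈ s, b i) x = ∑ i ∈ s, rmul V (b i) x := by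
  classical
  induction s using Finset.induction_on with
  | empty => simp
  | insert i s hi ih => rw [Finset.sum_insert hi, Finset.sum_insert hi, rmul_add, ih]

/-- `ev2 g h = (v ⊗ a) ⊗ a' ↦ ev1 g (v ⊗ a) · h a'`. -/
theorem ev2_tmul' (g h : WithConv (A →ₐ[k] B)) (w : V ⊗[k] A) (a : A) :
    ev2 g h (w ⊗ₜ[k] a) = rmul V (h.ofConv a) (ev1 g w) := by
  rw [ev2_tmul, mulB_eq]

theorem ev3_tmul' (g h l : WithConv (A →ₐ[k] B)) (w : (V ⊗[k] A) ⊗[k] A) (a : A) :
    ev3 g h l (w ⊗ₜ[k] a) = rmul V (l.ofConv a) (ev2 g h w) := by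
  rw [ev3_tmul, mulB_eq]

theorem actM_tmul' (ρ : V →ₗ[k] V ⊗[k] A) (g : WithConv (A →ₐ[k] B)) (v : V) (b : B) :
    actM ρ g (v ⊗ₜ[k] b) = rmul V b (ev1 g (ρ v)) := by
  rw [actM_tmul, mulB_eq]

theorem actM_rmul (ρ : V →ₗ[k] V ⊗[k] A) (g : WithConv (A →ₐ[k] B)) (b : B) (x : V ⊗[k] B) :
    actM ρ g (rmul V b x) = rmul V b (actM ρ g x) := by
  rw [← mulB_eq, actM_mulB, mulB_eq]

theorem actM_ev1 (ρ : V →ₗ[k] V ⊗[k] A) (g h : WithConv (A →ₐ[k] B)) (y : V ⊗[k] A) :
    actM ρ g (ev1 h y) = ev2 g h (ρ.rTensor A y) := by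
  induction y using TensorProduct.induction_on with
  | zero => simp
  | add x y hx hy => simp only [map_add, hx, hy]
  | tmul v a => rw [ev1_tmul, actM_tmul', LinearMap.rTensor_tmul, ev2_tmul']

end Ev

section Comul

variable {V : Type u} [AddCommGroup V] [Module k V] {A : Type u} [CommRing A] [HopfAlgebra k A]
  {B : Type u} [CommRing B] [Algebra k B] {C : Type u} [CommRing C] [Algebra k C]

theorem ev2_comul (g h : WithConv (A →ₐ[k] B)) (y : V ⊗[k] A) :
    ev2 g h ((TensorProduct.assoc k V A A).symm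
      ((CoalgebraStruct.comul (R := k) (A := A)).lTensor V y)) = ev1 (g * h) y := by
  induction y using TensorProduct.induction_on with
  | zero => simp
  | add x y hx hy => simp only [map_add, hx, hy]
  | tmul v a =>
    have key : ∀ z : A ⊗[k] A, ev2 g h ((TensorProduct.assoc k V A A).symm (v ⊗ₜ z)) =
        v ⊗ₜ Algebra.TensorProduct.lift g.ofConv h.ofConv (fun _ _ ↦ .all ..) z := by
      intro z
      induction z using TensorProduct.induction_on with
      | zero => simp
      | add x y hx hy => simp only [TensorProduct.tmul_add, map_add, hx, hy]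
      | tmul a a' => simp
    rw [LinearMap.lTensor_tmul, key, ev1_tmul]
    congr 1
    exact (AlgHom.convMul_apply g h a).symm

theorem actM_mul (c : HopfRep.Comod k A V) (g h : WithConv (A →ₐ[k] B)) (x : V ⊗[k] B) :
    actM c.coact (g * h) x = actM c.coact g (actM c.coact h x) := by
  induction x using TensorProduct.induction_on with
  | zero => simp
  | add x y hx hy => simp only [map_add, hx, hy]
  | tmul v b =>
    rw [actM_tmul', actM_tmul', actM_rmul, actM_ev1, ← ev2_comul]
    congr 2
    rw [LinearEquiv.symm_apply_eq]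
    exact (LinearMap.congr_fun c.coassoc v).symm

theorem actM_one (c : HopfRep.Comod k A V) (x : V ⊗[k] B) :
    actM c.coact (1 : WithConv (A →ₐ[k] B)) x = x := by
  have key : ∀ y : V ⊗[k] A, ev1 (1 : WithConv (A →ₐ[k] B)) y =
      (TensorProduct.mk k V B).flip 1 (TensorProduct.rid k V ((CoalgebraStruct.counit (R := k) (A := A)).lTensor V y)) := by
    intro y
    induction y using TensorProduct.induction_on with
    | zero => simp
    | add x y hx hy => simp only [map_add, hx, hy]
    | tmul v a =>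
      rw [ev1_tmul]
      change v ⊗ₜ (algebraMap k B (Coalgebra.counit a)) = _
      simp only [LinearMap.lTensor_tmul, TensorProduct.rid_tmul, LinearMap.flip_apply, TensorProduct.mk_apply]
      rw [TensorProduct.smul_tmul, Algebra.algebraMap_eq_smul_one]
  induction x using TensorProduct.induction_on with
  | zero => simp
  | add x y hx hy => simp only [map_add, hx, hy]
  | tmul v b =>
    rw [actM_tmul', key]
    have := LinearMap.congr_fun c.counit_comp v
    simp only [LinearMap.comp_apply] at this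
    rw [this]
    simp

theorem actM_nat (ρ : V →ₗ[k] V ⊗[k] A) (f : B →ₐ[k] C) (g : WithConv (A →ₐ[k] B)) (x : V ⊗[k] B) :
    f.toLinearMap.lTensor V (actM ρ g x) = actM ρ (toConv (f.comp g.ofConv)) (f.toLinearMap.lTensor V x) := by
  induction x using TensorProduct.induction_on with
  | zero => simp
  | add x y hx hy => simp only [map_add, hx, hy]
  | tmul v b =>
    rw [actM_tmul', vmap_rmul, LinearMap.lTensor_tmul, actM_tmul']
    congr 1
    change _ = ((f.comp g.ofConv).toLinearMap.lTensor V) (ρ v)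
    rw [AlgHom.comp_toLinearMap, LinearMap.lTensor_comp]
    rfl

end Comul

/-! ### Modules -/

/-- The points of a module of the group `E`: `M.V ⊗ B`, `g · (v ⊗ b) = Σ v₀ ⊗ g(v₁) b`. -/
def ptsMod {E : Gp k} (M : GMod E) : HMod (pts E) where
  pt B _ _ := M.V ⊗[k] B
  grp B _ _ := inferInstance
  map f := (f.toLinearMap.lTensor M.V).toAddMonoidHom
  map_id B _ _ x := by
    change (LinearMap.id.lTensor M.V) x = x
    rw [LinearMap.lTensor_id]; rfl
  map_comp f g x := by
    change ((g.comp f).toLinearMap.lTensor M.V) x = _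
    rw [AlgHom.comp_toLinearMap, LinearMap.lTensor_comp]; rfl
  act B _ _ g := (actM M.co.coact g).toAddMonoidHom
  act_one B _ _ x := actM_one M.co x
  act_mul B _ _ g h x := actM_mul M.co g h x
  act_nat f g x := actM_nat M.co.coact f g x

/-- A matrix representation of the group `E`. -/
structure MRep (E : Gp k) : Type (max 1 u) where
  I : Type
  [fin : Fintype I]
  [dec : DecidableEq I]
  [ne : Nonempty I]
  R : Matrix I I E.O
  comul_R : ∀ i j, (CoalgebraStruct.comul (R := k) (R i j) : E.O ⊗[k] E.O) = ∑ l, R i l ⊗ₜ[k] R l j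
  counit_R : ∀ i j, CoalgebraStruct.counit (R := k) (R i j) = (1 : Matrix I I k) i j

attribute [instance] MRep.fin MRep.dec MRep.ne

namespace MRep

variable {E : Gp k}

/-- The matrix of a point. -/
def rhoM (T : MRep E) (B : Type u) [CommRing B] [Algebra k B] : WithConv (E.O →ₐ[k] B) →* Matrix T.I T.I B where
  toFun g := T.R.map g.ofConv
  map_one' := by
    ext i j
    change algebraMap k B (Coalgebra.counit (T.R i j)) = _
    rw [T.counit_R]
    simp only [Matrix.one_apply]
    split_ifs <;> simp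
  map_mul' g h := by
    ext i j
    rw [Matrix.mul_apply]
    change (g * h) (T.R i j) = _
    rw [AlgHom.convMul_apply, T.comul_R, map_sum]
    refine Finset.sum_congr rfl fun l _ => ?_
    simp [Algebra.TensorProduct.lift_tmul]

/-- The representation on points. -/
def rho (T : MRep E) (B : Type u) [CommRing B] [Algebra k B] :
    (pts E).pt B →* (Matrix T.I T.I B)ˣ := (T.rhoM B).toHomUnits

theorem rho_val (T : MRep E) {B : Type u} [CommRing B] [Algebra k B] (g : (pts E).pt B) :
    ((T.rho B g : (Matrix T.I T.I B)ˣ) : Matrix T.I T.I B) = T.R.map (g : WithConv (E.O →ₐ[k] B)).ofConv := rfl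

theorem rho_nat (T : MRep E) {B C : Type u} [CommRing B] [Algebra k B] [CommRing C] [Algebra k C]
    (f : B →ₐ[k] C) (g : (pts E).pt B) :
    T.rho C ((pts E).map f g) = Units.map ((f : B →+* C).mapMatrix (m := T.I)).toMonoidHom (T.rho B g) := by
  ext i j
  rfl

/-- The trivial representation. -/
def one (E : Gp k) : MRep E where
  I := Unit
  R := 1
  comul_R i j := by simp [Algebra.TensorProduct.one_def]
  counit_R i j := by simp

/-- The Kronecker product. -/
def mul (T T' : MRep E) : MRep E where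
  I := T.I × T'.I
  R := Matrix.of fun i j => T.R i.1 j.1 * T'.R i.2 j.2
  comul_R i j := by
    simp only [Matrix.of_apply]
    have h : (CoalgebraStruct.comul (R := k) (T.R i.1 j.1 * T'.R i.2 j.2) : E.O ⊗[k] E.O) =
        CoalgebraStruct.comul (R := k) (T.R i.1 j.1) * CoalgebraStruct.comul (R := k) (T'.R i.2 j.2) :=
      Bialgebra.comul_mul _ _
    rw [h, T.comul_R, T'.comul_R, Finset.sum_mul_sum, Fintype.sum_prod_type]
    refine Finset.sum_congr rfl fun l _ => Finset.sum_congr rfl fun l' _ => ?_
    rw [Algebra.TensorProduct.tmul_mul_tmul]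
  counit_R i j := by
    have h : CoalgebraStruct.counit (R := k) (T.R i.1 j.1 * T'.R i.2 j.2) =
        CoalgebraStruct.counit (R := k) (T.R i.1 j.1) * CoalgebraStruct.counit (R := k) (T'.R i.2 j.2) :=
      Bialgebra.counit_mul _ _
    simp only [Matrix.of_apply]
    rw [h, T.counit_R, T'.counit_R]
    simp only [Matrix.one_apply, Prod.ext_iff]
    by_cases h1 : i.1 = j.1 <;> by_cases h2 : i.2 = j.2 <;> simp [h1, h2]

end MRep

/-! ### Matrices with entries in `V ⊗ B` -/

section Conj

variable {V : Type u} [AddCommGroup V] [Module k V] {A : Type u} [CommRing A] [HopfAlgebra k A]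
  {B : Type u} [CommRing B] [Algebra k B] {C : Type u} [CommRing C] [Algebra k C]
  {I : Type} [Fintype I] [DecidableEq I]

/-- `P X Q` -/
def conjM (P Q : Matrix I I B) (X : Matrix I I (V ⊗[k] B)) : Matrix I I (V ⊗[k] B) :=
  Matrix.of fun a b => ∑ c, ∑ d, rmul V (P a c * Q d b) (X c d)

theorem conjM_apply (P Q : Matrix I I B) (X : Matrix I I (V ⊗[k] B)) (a b : I) :
    conjM P Q X a b = ∑ c, ∑ d, rmul V (P a c * Q d b) (X c d) := rfl

theorem conjM_one (X : Matrix I I (V ⊗[k] B)) : conjM (1 : Matrix I I B) 1 X = X := by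
  ext a b
  rw [conjM_apply, Finset.sum_eq_single a, Finset.sum_eq_single b]
  · simp
  · intro d _ hd
    rw [Matrix.one_apply_ne hd, mul_zero, rmul_zero]
  · simp
  · intro c _ hc
    refine Finset.sum_eq_zero fun d _ => ?_
    rw [Matrix.one_apply_ne (Ne.symm hc), zero_mul, rmul_zero]
  · simp

theorem conjM_conjM (P Q P' Q' : Matrix I I B) (X : Matrix I I (V ⊗[k] B)) :
    conjM P Q (conjM P' Q' X) = conjM (P * P') (Q' * Q) X := by
  ext a b
  simp only [conjM_apply, map_sum, Matrix.mul_apply, Finset.sum_mul_sum, rmul_sum]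
  have h1 : ∀ e f c d, rmul V (P a e * Q f b) (rmul V (P' e c * Q' d f) (X c d)) =
      rmul (k := k) V (P a e * P' e c * (Q' d f * Q f b)) (X c d) := by
    intro e f c d
    rw [← rmul_mul]
    congr 2
    ring
  simp only [h1]
  calc ∑ e, ∑ f, ∑ c, ∑ d, rmul (k := k) V (P a e * P' e c * (Q' d f * Q f b)) (X c d)
      = ∑ e, ∑ c, ∑ f, ∑ d, rmul (k := k) V (P a e * P' e c * (Q' d f * Q f b)) (X c d) :=
        Finset.sum_congr rfl fun e _ => Finset.sum_comm
    _ = ∑ c, ∑ e, ∑ f, ∑ d, rmul (k := k) V (P a e * P' e c * (Q' d f * Q f b)) (X c d) :=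
        Finset.sum_comm
    _ = ∑ c, ∑ e, ∑ d, ∑ f, rmul (k := k) V (P a e * P' e c * (Q' d f * Q f b)) (X c d) :=
        Finset.sum_congr rfl fun c _ => Finset.sum_congr rfl fun e _ => Finset.sum_comm
    _ = ∑ c, ∑ d, ∑ e, ∑ f, rmul (k := k) V (P a e * P' e c * (Q' d f * Q f b)) (X c d) :=
        Finset.sum_congr rfl fun c _ => Finset.sum_comm

theorem conjM_add (P Q : Matrix I I B) (X Y : Matrix I I (V ⊗[k] B)) :
    conjM P Q (X + Y) = conjM P Q X + conjM P Q Y := by
  ext a b
  simp only [conjM_apply, Matrix.add_apply, map_add, Finset.sum_add_distrib]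

theorem conjM_map (f : B →ₐ[k] C) (P Q : Matrix I I B) (X : Matrix I I (V ⊗[k] B)) :
    (conjM P Q X).map (f.toLinearMap.lTensor V) = conjM (P.map f) (Q.map f) (X.map (f.toLinearMap.lTensor V)) := by
  ext a b
  simp only [conjM_apply, Matrix.map_apply, map_sum, vmap_rmul, map_mul]

theorem conjM_actM (ρ : V →ₗ[k] V ⊗[k] A) (g : WithConv (A →ₐ[k] B)) (P Q : Matrix I I B)
    (X : Matrix I I (V ⊗[k] B)) :
    (conjM P Q X).map (actM ρ g) = conjM P Q (X.map (actM ρ g)) := by
  ext a b
  simp only [conjM_apply, Matrix.map_apply, map_sum, actM_rmul]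

end Conj

/-- The points of `End T ⊗ M` in matrix form: `h · X = ρ(h) (h.X) ρ(h)⁻¹`. -/
def matMod {E : Gp k} (T : MRep E) (M : GMod E) : HMod (pts E) where
  pt B _ _ := Matrix T.I T.I (M.V ⊗[k] B)
  grp B _ _ := inferInstance
  map f := (f.toLinearMap.lTensor M.V).toAddMonoidHom.mapMatrix
  map_id B _ _ x := by
    ext i j
    change (LinearMap.id.lTensor M.V) (x i j) = x i j
    rw [LinearMap.lTensor_id]; rfl
  map_comp f g x := by
    ext i j
    change ((g.comp f).toLinearMap.lTensor M.V) (x i j) = _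
    rw [AlgHom.comp_toLinearMap, LinearMap.lTensor_comp]; rfl
  act B _ _ g :=
    { toFun := fun X => conjM ((T.rho B g : (Matrix T.I T.I B)ˣ) : Matrix T.I T.I B)
        (((T.rho B g)⁻¹ : (Matrix T.I T.I B)ˣ) : Matrix T.I T.I B) (X.map (actM M.co.coact g))
      map_zero' := by
        ext a b
        simp [conjM_apply]
      map_add' := fun X Y => by
        rw [← conjM_add]
        congr 1
        ext a b
        simp }
  act_one B _ _ X := by
    change conjM ((T.rho B 1 : (Matrix T.I T.I B)ˣ) : Matrix T.I T.I B)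
        (((T.rho B 1)⁻¹ : (Matrix T.I T.I B)ˣ) : Matrix T.I T.I B)
        (X.map (actM M.co.coact (1 : WithConv (E.O →ₐ[k] B)))) = X
    rw [map_one, inv_one, Units.val_one, conjM_one]
    ext a b
    exact actM_one M.co _
  act_mul B _ _ g h X := by
    change conjM ((T.rho B (g * h) : (Matrix T.I T.I B)ˣ) : Matrix T.I T.I B)
        (((T.rho B (g * h))⁻¹ : (Matrix T.I T.I B)ˣ) : Matrix T.I T.I B)
        (X.map (actM M.co.coact ((g : WithConv (E.O →ₐ[k] B)) * h))) =
      conjM ((T.rho B g : (Matrix T.I T.I B)ˣ) : Matrix T.I T.I B)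
        (((T.rho B g)⁻¹ : (Matrix T.I T.I B)ˣ) : Matrix T.I T.I B)
        ((conjM ((T.rho B h : (Matrix T.I T.I B)ˣ) : Matrix T.I T.I B)
        (((T.rho B h)⁻¹ : (Matrix T.I T.I B)ˣ) : Matrix T.I T.I B) (X.map (actM M.co.coact h))).map
          (actM M.co.coact g))
    rw [conjM_actM, conjM_conjM, map_mul, mul_inv_rev, Units.val_mul, Units.val_mul]
    congr 1
    ext a b
    exact actM_mul M.co _ _ _
  act_nat {B C} _ _ _ _ f g X := by
    change (conjM _ _ _).map (f.toLinearMap.lTensor M.V) = conjM _ _ _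
    rw [conjM_map, MRep.rho_nat]
    congr 1
    ext a b
    exact actM_nat M.co.coact f g _

theorem matMod_act_apply {E : Gp k} (T : MRep E) (M : GMod E) (B : Type u) [CommRing B] [Algebra k B]
    (g : (pts E).pt B) (X : Matrix T.I T.I (M.V ⊗[k] B)) (a b : T.I) :
    ((matMod T M).act B g X : Matrix T.I T.I (M.V ⊗[k] B)) a b =
      ∑ c, ∑ d, rmul M.V (((T.rho B g : (Matrix T.I T.I B)ˣ) : Matrix T.I T.I B) a c *
        (((T.rho B g)⁻¹ : (Matrix T.I T.I B)ˣ) : Matrix T.I T.I B) d b) (actM M.co.coact g (X c d)) := rfl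

/-- `x ↦ x ⊗ 1` -/
def theta {E : Gp k} (T T' : MRep E) (M : GMod E) :
    AHom (matMod T M).toAFun (matMod (T.mul T') M).toAFun where
  app B _ _ :=
    { toFun := fun (X : Matrix T.I T.I (M.V ⊗[k] B)) =>
        (Matrix.of fun (i j : T.I × T'.I) => if i.2 = j.2 then X i.1 j.1 else 0 :
          Matrix (T.I × T'.I) (T.I × T'.I) (M.V ⊗[k] B))
      map_zero' := by
        refine Matrix.ext (m := T.I × T'.I) (n := T.I × T'.I) fun i j => ?_
        change (if i.2 = j.2 then (0 : M.V ⊗[k] B) else 0) = 0
        split_ifs <;> rfl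
      map_add' := fun X Y => by
        refine Matrix.ext (m := T.I × T'.I) (n := T.I × T'.I) fun i j => ?_
        change (if i.2 = j.2 then (X i.1 j.1 + Y i.1 j.1 : M.V ⊗[k] B) else 0) =
          (if i.2 = j.2 then X i.1 j.1 else 0) + (if i.2 = j.2 then Y i.1 j.1 else 0)
        split_ifs <;> simp }
  nat {B C} _ _ _ _ f X := by
    refine Matrix.ext (m := T.I × T'.I) (n := T.I × T'.I) fun i j => ?_
    change (if i.2 = j.2 then f.toLinearMap.lTensor M.V (X i.1 j.1) else 0) =
      f.toLinearMap.lTensor M.V (if i.2 = j.2 then X i.1 j.1 else 0)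
    split_ifs <;> simp

theorem theta_apply {E : Gp k} (T T' : MRep E) (M : GMod E) (B : Type u) [CommRing B] [Algebra k B]
    (X : Matrix T.I T.I (M.V ⊗[k] B)) (i j : T.I × T'.I) :
    ((theta T T' M).app B X : Matrix (T.I × T'.I) (T.I × T'.I) (M.V ⊗[k] B)) i j =
      if i.2 = j.2 then X i.1 j.1 else 0 := rfl

end Groth.Agent.ResProp.EF.K649
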