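import Groth.Agent.ResProp.EF.K649.Pts
import Groth.Agent.ResProp.EF.K104.Adm

/-!
# The comodule of a `K104.Rep` on points

`repMod r : GMod E` for `r : K104.Rep k E.O M`; `actM_rep`: the action of points on `M ⊗ B` is the given family.
-/

set_option autoImplicit false

universe u

open TensorProduct Groth.Agent.ResProp.EF.Grp Groth.Agent.ResProp.EF.K104 Groth.Agent.ResProp.EF.K208 WithConv

noncomputable section

namespace Groth.Agent.ResProp.EF.K649

variable {k : Type u} [CommRing k]

theorem comm_smul' {M : Type u} [AddCommGroup M] [Module k M] {B : Type u} [CommRing B] [Algebra k B]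
    (b : B) (y : B ⊗[k] M) : TensorProduct.comm k B M (b • y) = rmul M b (TensorProduct.comm k B M y) := by
  induction y using TensorProduct.induction_on with
  | zero => simp
  | add x y hx hy => simp only [smul_add, map_add, hx, hy]
  | tmul c m => simp [TensorProduct.smul_tmul', mul_comm]

theorem comm_rTensor {M : Type u} [AddCommGroup M] [Module k M] {B C : Type u} [CommRing B] [Algebra k B]
    [CommRing C] [Algebra k C] (f : B →ₐ[k] C) (y : B ⊗[k] M) :
    TensorProduct.comm k C M (f.toLinearMap.rTensor M y) =
      f.toLinearMap.lTensor M (TensorProduct.comm k B M y) := by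
  induction y using TensorProduct.induction_on with
  | zero => simp
  | add x y hx hy => simp only [map_add, hx, hy]
  | tmul c m => simp

/-- The module of a representation by functor of points. -/
abbrev repMod {E : Gp k} {M : Type u} [AddCommGroup M] [Module k M] (r : Rep k E.O M) : GMod E where
  V := M
  co := r.comod

theorem actM_rep {E : Gp k} {M : Type u} [AddCommGroup M] [Module k M] (r : Rep k E.O M)
    {B : Type u} [CommRing B] [Algebra k B] [Module.Flat k B] (g : E.O →ₐ[k] B) (y : B ⊗[k] M) :
    actM (repMod r).co.coact (toConv g) (TensorProduct.comm k B M y) =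
      TensorProduct.comm k B M (r.s B g y) := by
  induction y using TensorProduct.induction_on with
  | zero => simp
  | add x y hx hy => simp only [map_add, hx, hy]
  | tmul b m =>
    rw [TensorProduct.comm_tmul, actM_tmul', r.s_tmul, comm_smul', comm_rTensor]
    rfl

end Groth.Agent.ResProp.EF.K649
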