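import Groth.Agent.ResProp.EF.K649.GrMod
import Groth.Agent.ResProp.EF.K661.TowerD

/-!
# The tower of an operator package (G5, node B2, final)
-/

set_option autoImplicit false

universe u

open TensorProduct Groth.Agent.ResProp.EF.Grp Groth.Agent.ResProp.EF.K104 Groth.Agent.ResProp.EF.K208 WithConv
  Groth.Agent.ResProp.EF.K661

noncomputable section

namespace Groth.Agent.ResProp.EF.K649

variable {k : Type u} [CommRing k] {H0 : Gp k} {n : ℕ}

/-- The module structures on the graded pieces, as a datum for `K661.tower`. -/
def grDat (P : OpPkg (pts H0) n) : GrDat P where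
  co := grCo P
  act_eq j hj B _ _ _ g x := actM_gr P j hj B g x

/-- **(B2)** the tower of an operator package. -/
def towerOf (P : OpPkg (pts H0) n) : Tower.{u, max 1 u} (pts H0) := tower (grDat P)

end Groth.Agent.ResProp.EF.K649
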